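import Mathlib

/-!
# Algebra for the stalkwise fibre criterion (helper70)
-/

set_option autoImplicit false
set_option linter.style.haveILetI false

open Function TensorProduct

namespace Groth.Agent.H70.StalkFibre

section Loc

variable {B : Type*} [CommRing B] (T : Submonoid B)
  {M' M C L' L L'' : Type*} [AddCommGroup M'] [AddCommGroup M] [AddCommGroup C]
  [AddCommGroup L'] [AddCommGroup L] [AddCommGroup L'']
  [Module B M'] [Module B M] [Module B C] [Module B L'] [Module B L] [Module B L'']

/-- exactness passes to compatible maps between localizations -/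
theorem exact_of_isLocalizedModule (g' : M' →ₗ[B] L') (g : M →ₗ[B] L) (g'' : C →ₗ[B] L'')
    [IsLocalizedModule T g'] [IsLocalizedModule T g] [IsLocalizedModule T g'']
    (φ : M' →ₗ[B] M) (π : M →ₗ[B] C) (ψu : L' →ₗ[B] L) (ψπ : L →ₗ[B] L'')
    (hu : ∀ m, ψu (g' m) = g (φ m)) (hπ : ∀ m, ψπ (g m) = g'' (π m))
    (hex : Exact φ π) (hsurj : Surjective π) : Exact ψu ψπ ∧ Surjective ψπ := by
  have h1 : ψu = IsLocalizedModule.map T g' g φ := by
    apply IsLocalizedModule.linearMap_ext T g' g
    ext m
    simp only [LinearMap.comp_apply, IsLocalizedModule.map_apply]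
    exact hu m
  have h2 : ψπ = IsLocalizedModule.map T g g'' π := by
    apply IsLocalizedModule.linearMap_ext T g g''
    ext m
    simp only [LinearMap.comp_apply, IsLocalizedModule.map_apply]
    exact hπ m
  rw [h1, h2]
  exact ⟨IsLocalizedModule.map_exact T g' g g'' φ π hex,
    IsLocalizedModule.map_surjective T g g'' π hsurj⟩

end Loc

section Flat

variable {R S : Type*} [CommRing R] [CommRing S] [Algebra R S]
  {M N : Type*} [AddCommGroup M] [Module S M] [Module R M] [IsScalarTower R S M]
  [AddCommGroup N] [Module S N] [Module R N] [IsScalarTower R S N]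

theorem mem_map_smul_top_iff (I : Ideal R) (z : N) :
    z ∈ (I.map (algebraMap R S) • ⊤ : Submodule S N) ↔ (1 : R ⧸ I) ⊗ₜ[R] z = 0 := by
  have h1 : z ∈ (I.map (algebraMap R S) • ⊤ : Submodule S N) ↔
      z ∈ (I • ⊤ : Submodule R N) := by
    rw [← Submodule.restrictScalars_mem R, Ideal.smul_restrictScalars,
      Submodule.restrictScalars_top]
  rw [h1, ← Submodule.Quotient.mk_eq_zero, ← TensorProduct.quotTensorEquivQuotSMul_mk_one_tmul,
    LinearEquiv.map_eq_zero_iff]

/-- if `u` is injective with `R`-flat cokernel then `u` stays injective modulo any ideal of `R` -/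
theorem mem_smul_top_of_flat_coker (u : M →ₗ[S] N) (hu : Injective u)
    (hflat : Module.Flat R (N ⧸ LinearMap.range u)) (I : Ideal R) (m : M)
    (hm : u m ∈ (I.map (algebraMap R S) • ⊤ : Submodule S N)) :
    m ∈ (I.map (algebraMap R S) • ⊤ : Submodule S M) := by
  rw [mem_map_smul_top_iff] at hm ⊢
  have hex : Exact (u.restrictScalars R) ((LinearMap.range u).mkQ.restrictScalars R) := by
    intro y
    change (LinearMap.range u).mkQ y = 0 ↔ y ∈ Set.range u
    rw [Submodule.mkQ_apply, Submodule.Quotient.mk_eq_zero]
    rfl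
  have hinj := LinearMap.lTensor_injective_of_exact_of_flat
    ((LinearMap.range u).mkQ.restrictScalars R) (Submodule.mkQ_surjective _)
    (u.restrictScalars R) hu hex (R ⧸ I)
  apply hinj
  rw [map_zero, LinearMap.lTensor_tmul]
  exact hm

end Flat

end Groth.Agent.H70.StalkFibre
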