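import Mathlib
import Groth.Prelude.Def_CAlgX

/-!
# Abstract localizations of a finitely presented algebra are essentially of finite presentation
(helper70)
-/

set_option autoImplicit false
set_option linter.style.haveILetI false
universe u

open TensorProduct

namespace Groth.Agent.H70.StalkFibre

/-- `A → B` of finite presentation, `R` a localization of `A` at a prime `p`, `S` a localization of
`B` at a prime `q`, with a compatible algebra structure `R → S`: then `S` is essentially of finite
presentation over `R`. -/
theorem isEssFinitePresentation_of_isLocalization {A B R S : Type u} [CommRing A] [CommRing B]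
    [CommRing R] [CommRing S] [Algebra A B] [Algebra.FinitePresentation A B] [Algebra A R]
    [Algebra B S] [Algebra R S] [Algebra A S] [IsScalarTower A R S] [IsScalarTower A B S]
    (p : Ideal A) [p.IsPrime] (q : Ideal B) [q.IsPrime] [IsLocalization.AtPrime R p]
    [IsLocalization.AtPrime S q] : CAlgX.IsEssFinitePresentation R S := by
  let Mp : Submonoid B := Algebra.algebraMapSubmonoid B p.primeCompl
  have hunitS : ∀ b : Mp, IsUnit (algebraMap B S b) := by
    rintro ⟨_, a, ha, rfl⟩
    change IsUnit (algebraMap B S (algebraMap A B a))
    rw [← IsScalarTower.algebraMap_apply A B S, IsScalarTower.algebraMap_apply A R S]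
    exact (IsLocalization.map_units R (⟨a, ha⟩ : p.primeCompl)).map _
  have hle : Mp ≤ q.primeCompl := by
    intro b hb hq
    have h1 : IsUnit (algebraMap B S b) := hunitS ⟨b, hb⟩
    have h2 := (IsLocalization.AtPrime.isUnit_to_map_iff S q b).mp h1
    exact h2 hq
  let S₀ := Localization Mp
  letI : Algebra S₀ S :=
    IsLocalization.localizationAlgebraOfSubmonoidLe S₀ S Mp q.primeCompl hle
  haveI : IsScalarTower B S₀ S :=
    IsLocalization.localization_isScalarTower_of_submonoid_le _ _ _ _ hle
  have hunit0 : ∀ a : p.primeCompl, IsUnit (algebraMap A S₀ a) := by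
    rintro ⟨a, ha⟩
    change IsUnit (algebraMap A S₀ a)
    rw [IsScalarTower.algebraMap_apply A B S₀]
    exact IsLocalization.map_units S₀ (⟨algebraMap A B a, a, ha, rfl⟩ : Mp)
  letI : Algebra R S₀ := (IsLocalization.lift (M := p.primeCompl) (S := R) hunit0).toAlgebra
  haveI : IsScalarTower A R S₀ := IsScalarTower.of_algebraMap_eq (fun a => by
    change algebraMap A S₀ a = (IsLocalization.lift (M := p.primeCompl) (S := R) hunit0)
      (algebraMap A R a)
    rw [IsLocalization.lift_eq])
  haveI : IsLocalization (Algebra.algebraMapSubmonoid B p.primeCompl) S₀ :=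
    inferInstanceAs (IsLocalization Mp (Localization Mp))
  haveI : Algebra.IsPushout A B R S₀ := Algebra.isPushout_of_isLocalization (R := A) (A := R) p.primeCompl B S₀
  haveI : Algebra.IsPushout A R B S₀ := Algebra.IsPushout.symm inferInstance
  have hfp : Algebra.FinitePresentation R S₀ :=
    Algebra.FinitePresentation.equiv (Algebra.IsPushout.equiv A R B S₀)
  have htower : IsScalarTower R S₀ S := by
    refine IsScalarTower.of_algebraMap_eq' ?_
    apply IsLocalization.ringHom_ext p.primeCompl
    ext a
    simp only [RingHom.comp_apply]
    rw [← IsScalarTower.algebraMap_apply A R S, ← IsScalarTower.algebraMap_apply A R S₀,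
      IsScalarTower.algebraMap_apply A B S₀, ← IsScalarTower.algebraMap_apply B S₀ S,
      ← IsScalarTower.algebraMap_apply A B S]
  exact ⟨S₀, inferInstance, inferInstance, inferInstance, htower,
    q.primeCompl.map (algebraMap B S₀), hfp,
    IsLocalization.isLocalization_of_submonoid_le S₀ _ Mp q.primeCompl hle⟩

end Groth.Agent.H70.StalkFibre
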