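import Groth.Agent.S2107
import Groth.Agent.H70.StalkFibre.EssFP
import Groth.Agent.H70.StalkFibre.Alg
import Groth.Agent.H70.FlatLocusGeo.InjFlat

/-!
# The fibre criterion for a map of modules, at stalks (helper70)
-/

set_option autoImplicit false
set_option linter.style.haveILetI false

open CategoryTheory Limits AlgebraicGeometry TopologicalSpace Opposite

namespace Groth.Agent.H70.StalkFibre

universe u

variable {X Y : Scheme.{u}}

open Groth.Agent.H70.FlatLocusGeo Groth.Agent.H5.Stalk

/-- the stalk map as a `Γ(X,U)`-linear map -/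
noncomputable def stalkMapₗ {F' F : X.Modules} (u : F' ⟶ F) {U : X.Opens} {x : X} (hxU : x ∈ U) :
    letI := Groth.Agent.H8.stalkModule F' hxU
    letI := Groth.Agent.H8.stalkModule F hxU
    F'.presheaf.stalk x →ₗ[Γ(X, U)] F.presheaf.stalk x :=
  letI := Groth.Agent.H8.stalkModule F' hxU
  letI := Groth.Agent.H8.stalkModule F hxU
  { toFun := fun m => ((stalkFunctor x).map u).hom m
    map_add' := fun a b => map_add _ a b
    map_smul' := fun r m => ((stalkFunctor x).map u).hom.map_smul (X.presheaf.germ U x hxU r) m }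

/-- stalks are exact on cokernels of maps between quasi-coherent modules -/
theorem stalk_exact_cokernel {F' F : X.Modules} [F'.IsQuasicoherent] [F.IsQuasicoherent]
    (u : F' ⟶ F) (x : X) :
    Function.Exact ((stalkFunctor x).map u).hom ((stalkFunctor x).map (cokernel.π u)).hom ∧
      Function.Surjective ((stalkFunctor x).map (cokernel.π u)).hom := by
  haveI := Groth.Agent.H12.QCohAbelian.isQuasicoherent_cokernel u
  obtain ⟨U, -, hU, -, hxU, -⟩ := Groth.Agent.H71.QCoh.exists_affine_pair (𝟙 X) x
  letI := Groth.Agent.H8.stalkModule F' hxU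
  letI := Groth.Agent.H8.stalkModule F hxU
  letI := Groth.Agent.H8.stalkModule (cokernel u) hxU
  haveI := Groth.Agent.H8.isLocalizedModule_germₗ F' hU hxU
  haveI := Groth.Agent.H8.isLocalizedModule_germₗ F hU hxU
  haveI := Groth.Agent.H8.isLocalizedModule_germₗ (cokernel u) hU hxU
  obtain ⟨hex, hsurj⟩ := sections_exact_cokernel u hU
  have hu : ∀ m, stalkMapₗ u hxU (Groth.Agent.H8.germₗ F' hxU m) =
      Groth.Agent.H8.germₗ F hxU (appₗ u U m) :=
    fun m => stalkFunctor_map_germ x u U hxU m
  have hπ : ∀ m, stalkMapₗ (cokernel.π u) hxU (Groth.Agent.H8.germₗ F hxU m) =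
      Groth.Agent.H8.germₗ (cokernel u) hxU (appₗ (cokernel.π u) U m) :=
    fun m => stalkFunctor_map_germ x (cokernel.π u) U hxU m
  have key := exact_of_isLocalizedModule (hU.primeIdealOf ⟨x, hxU⟩).asIdeal.primeCompl
    (Groth.Agent.H8.germₗ F' hxU) (Groth.Agent.H8.germₗ F hxU)
    (Groth.Agent.H8.germₗ (cokernel u) hxU) (appₗ u U) (appₗ (cokernel.π u) U)
    (stalkMapₗ u hxU) (stalkMapₗ (cokernel.π u) hxU) hu hπ hex hsurj
  exact key

open Groth.Agent.H71.QCoh in
/-- the local ring of `X` at `x` is essentially of finite presentation over the local ring of `Y`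
at `f x`, for `f` locally of finite presentation -/
theorem isEssFinitePresentation_stalk (f : X ⟶ Y) [LocallyOfFinitePresentation f] (x : X) :
    letI : Algebra (Y.presheaf.stalk (f x)) (X.presheaf.stalk x) := (f.stalkMap x).hom.toAlgebra
    CAlgX.IsEssFinitePresentation (Y.presheaf.stalk (f x)) (X.presheaf.stalk x) := by
  letI : Algebra (Y.presheaf.stalk (f x)) (X.presheaf.stalk x) := (f.stalkMap x).hom.toAlgebra
  obtain ⟨U, V, hU, hV, hxU, e⟩ := exists_affine_pair f x
  letI : Algebra Γ(Y, V) Γ(X, U) := (f.appLE V U e).hom.toAlgebra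
  haveI : Algebra.FinitePresentation Γ(Y, V) Γ(X, U) := f.finitePresentation_appLE hV hU e
  letI : Algebra Γ(Y, V) (Y.presheaf.stalk (f x)) :=
    TopCat.Presheaf.algebra_section_stalk Y.presheaf ⟨f x, e hxU⟩
  letI : Algebra Γ(X, U) (X.presheaf.stalk x) :=
    TopCat.Presheaf.algebra_section_stalk X.presheaf ⟨x, hxU⟩
  letI : Algebra Γ(Y, V) (X.presheaf.stalk x) :=
    ((algebraMap Γ(X, U) (X.presheaf.stalk x)).comp (algebraMap Γ(Y, V) Γ(X, U))).toAlgebra
  haveI : IsScalarTower Γ(Y, V) Γ(X, U) (X.presheaf.stalk x) :=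
    IsScalarTower.of_algebraMap_eq (fun _ => rfl)
  haveI : IsScalarTower Γ(Y, V) (Y.presheaf.stalk (f x)) (X.presheaf.stalk x) :=
    IsScalarTower.of_algebraMap_eq (fun a => (stalkMap_germ_eq_germ_appLE f e hxU a).symm)
  haveI := hV.isLocalization_stalk ⟨f x, e hxU⟩
  haveI := hU.isLocalization_stalk ⟨x, hxU⟩
  exact isEssFinitePresentation_of_isLocalization (A := Γ(Y, V)) (B := Γ(X, U))
    (hV.primeIdealOf ⟨f x, e hxU⟩).asIdeal (hU.primeIdealOf ⟨x, hxU⟩).asIdeal

/-- stalks of finitely presented quasi-coherent modules are finitely presented -/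
theorem finitePresentation_stalk (F : X.Modules) [F.IsQuasicoherent]
    [SheafOfModules.IsFinitePresentation (R := X.ringCatSheaf) F] (x : X) :
    Module.FinitePresentation (X.presheaf.stalk x) (F.presheaf.stalk x) := by
  obtain ⟨U, -, hU, -, hxU, -⟩ := Groth.Agent.H71.QCoh.exists_affine_pair (𝟙 X) x
  letI := Groth.Agent.H8.stalkModule F hxU
  haveI := Groth.Agent.H8.isLocalizedModule_germₗ F hU hxU
  letI : Algebra Γ(X, U) (X.presheaf.stalk x) :=
    TopCat.Presheaf.algebra_section_stalk X.presheaf ⟨x, hxU⟩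
  haveI : IsScalarTower Γ(X, U) (X.presheaf.stalk x) (F.presheaf.stalk x) :=
    IsScalarTower.of_algebraMap_smul (fun r m => rfl)
  haveI := hU.isLocalization_stalk ⟨x, hxU⟩
  haveI : Module.FinitePresentation Γ(X, U) Γ(F, U) :=
    Groth.Agent.H44.finitePresentation_sections_of_isFinitePresentation F hU
  exact FinitePresentation.of_isBaseChange (Groth.Agent.H8.germₗ F hxU)
    ((isLocalizedModule_iff_isBaseChange (hU.primeIdealOf ⟨x, hxU⟩).asIdeal.primeCompl
      (X.presheaf.stalk x) (Groth.Agent.H8.germₗ F hxU)).mp inferInstance)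

/-- **Fibre criterion for a homomorphism with flat target, at a point.** -/
theorem injective_and_flat_iff (f : X ⟶ Y) [LocallyOfFinitePresentation f] (F F' : X.Modules)
    [F.IsQuasicoherent] [F'.IsQuasicoherent]
    [SheafOfModules.IsFinitePresentation (R := X.ringCatSheaf) F]
    [SheafOfModules.IsFinitePresentation (R := X.ringCatSheaf) F'] (u : F' ⟶ F) (x : X)
    (hflat : FlatMod.IsFlatOverAt f F x) :
    (Function.Injective ((stalkFunctor x).map u).hom ∧ FlatMod.IsFlatOverAt f (cokernel u) x) ↔
      ∀ m : F'.presheaf.stalk x,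
        ((stalkFunctor x).map u).hom m ∈
          ((Ideal.map (f.stalkMap x).hom (IsLocalRing.maximalIdeal (Y.presheaf.stalk (f x)))) •
            (⊤ : Submodule (X.presheaf.stalk x) (F.presheaf.stalk x))) →
          m ∈ ((Ideal.map (f.stalkMap x).hom
            (IsLocalRing.maximalIdeal (Y.presheaf.stalk (f x)))) •
            (⊤ : Submodule (X.presheaf.stalk x) (F'.presheaf.stalk x))) := by
  letI : Algebra (Y.presheaf.stalk (f x)) (X.presheaf.stalk x) := (f.stalkMap x).hom.toAlgebra
  haveI : IsLocalHom (algebraMap (Y.presheaf.stalk (f x)) (X.presheaf.stalk x)) :=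
    inferInstanceAs (IsLocalHom (f.stalkMap x).hom)
  letI : Module (Y.presheaf.stalk (f x)) (F'.presheaf.stalk x) := FlatMod.moduleStalkOver f F' x
  letI : Module (Y.presheaf.stalk (f x)) (F.presheaf.stalk x) := FlatMod.moduleStalkOver f F x
  letI : Module (Y.presheaf.stalk (f x)) ((cokernel u).presheaf.stalk x) :=
    FlatMod.moduleStalkOver f (cokernel u) x
  haveI : IsScalarTower (Y.presheaf.stalk (f x)) (X.presheaf.stalk x) (F'.presheaf.stalk x) :=
    IsScalarTower.of_algebraMap_smul (fun r m => rfl)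
  haveI : IsScalarTower (Y.presheaf.stalk (f x)) (X.presheaf.stalk x) (F.presheaf.stalk x) :=
    IsScalarTower.of_algebraMap_smul (fun r m => rfl)
  haveI : IsScalarTower (Y.presheaf.stalk (f x)) (X.presheaf.stalk x)
      ((cokernel u).presheaf.stalk x) :=
    IsScalarTower.of_algebraMap_smul (fun r m => rfl)
  haveI := finitePresentation_stalk F x
  haveI := finitePresentation_stalk F' x
  haveI : Module.Flat (Y.presheaf.stalk (f x)) (F.presheaf.stalk x) := hflat
  have hess := isEssFinitePresentation_stalk f x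
  obtain ⟨hex, hsurj⟩ := stalk_exact_cokernel u x
  let su : F'.presheaf.stalk x →ₗ[X.presheaf.stalk x] F.presheaf.stalk x :=
    ((stalkFunctor x).map u).hom
  let sπ : F.presheaf.stalk x →ₗ[X.presheaf.stalk x] (cokernel u).presheaf.stalk x :=
    ((stalkFunctor x).map (cokernel.π u)).hom
  have hker : LinearMap.range su = LinearMap.ker sπ := (LinearMap.exact_iff.mp hex).symm
  let e : (F.presheaf.stalk x ⧸ LinearMap.range su) ≃ₗ[X.presheaf.stalk x]
      (cokernel u).presheaf.stalk x :=
    (Submodule.quotEquivOfEq _ _ hker).trans (sπ.quotKerEquivOfSurjective hsurj)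
  let eR := e.restrictScalars (Y.presheaf.stalk (f x))
  have hiff : FlatMod.IsFlatOverAt f (cokernel u) x ↔
      Module.Flat (Y.presheaf.stalk (f x)) (F.presheaf.stalk x ⧸ LinearMap.range su) :=
    ⟨fun h => by
      haveI : Module.Flat (Y.presheaf.stalk (f x)) ((cokernel u).presheaf.stalk x) := h
      exact Module.Flat.of_linearEquiv eR,
     fun h => by
      haveI := h
      exact Module.Flat.of_linearEquiv eR.symm⟩
  rw [hiff]
  constructor
  · rintro ⟨hinj, hcflat⟩ m hm
    exact mem_smul_top_of_flat_coker su hinj hcflat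
      (IsLocalRing.maximalIdeal (Y.presheaf.stalk (f x))) m hm
  · intro h
    exact Groth.Agent.S2107.result hess su h

end Groth.Agent.H70.StalkFibre
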